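import Groth.Agent.AmpleEmb.GenRatio
import Groth.Agent.AmpleEmb.GenFinite
import Groth.Agent.SteinConn.Stein
import Groth.Agent.AmpleLib.FinProd

/-!
# Contractions of semiample invertible modules
-/

set_option autoImplicit false
set_option backward.isDefEq.respectTransparency false
set_option linter.style.haveILetI false
set_option maxHeartbeats 1000000
set_option synthInstance.maxHeartbeats 200000

universe u

open CategoryTheory CategoryTheory.Limits AlgebraicGeometry TopologicalSpace Opposite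
open Groth.Agent.ParaFLib (Gen)
open Groth.Agent.AmpleLib (sec resT)

noncomputable section

namespace Groth.Agent.SemiampleLib

variable {X Y : Scheme.{u}}

/-- A finite family of sections without common zero. -/
theorem exists_family [CompactSpace X] [Nonempty X] {P : X.Modules} (hP : PicF.IsInvertible P)
    (hgg : Curv2.IsGloballyGenerated P) :
    ∃ (n : ℕ) (s : Fin (n + 1) → (Coh.structureModule X ⟶ P)), ∀ x, ∃ i, x ∈ CohB1.genLocus P (s i) := by
  classical
  choose σ hσ using fun x => AmpleLib.exists_genLocus_of_isGloballyGenerated hP hgg x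
  obtain ⟨T, hT⟩ := isCompact_univ.elim_finite_subcover
    (fun x : X => (CohB1.genLocus P (σ x) : Set X)) (fun x => (CohB1.genLocus P (σ x)).2)
    (fun x _ => Set.mem_iUnion.2 ⟨x, hσ x⟩)
  obtain ⟨x₁, hx₁, -⟩ := Set.mem_iUnion₂.1 (hT (Set.mem_univ (Classical.arbitrary X)))
  haveI : Nonempty T := ⟨⟨x₁, hx₁⟩⟩
  obtain ⟨n, ⟨ε⟩⟩ : ∃ n, Nonempty (Fin (n + 1) ≃ T) := ⟨Fintype.card T - 1,
    ⟨(finCongr (Nat.sub_add_cancel (Fintype.card_pos : 0 < Fintype.card T))).trans (Fintype.equivFin _).symm⟩⟩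
  refine ⟨n, fun i => σ (ε i).1, fun x => ?_⟩
  obtain ⟨y, hy, hxy⟩ := Set.mem_iUnion₂.1 (hT (Set.mem_univ x))
  exact ⟨ε.symm ⟨y, hy⟩, by simp only [Equiv.apply_symm_apply]; exact hxy⟩

variable {φ : X ⟶ Y}

theorem preimage_injective [Surjective φ] {V W : Y.Opens} (h : φ ⁻¹ᵁ V = φ ⁻¹ᵁ W) : V = W :=
  Opens.ext ((Set.preimage_injective.2 φ.surjective) (congrArg (fun O : X.Opens => (O : Set X)) h))

/-- The locus of a section is a preimage when a power of its module is a power of one with saturated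
generating loci. -/
theorem exists_preimage (hb : RigidLib.BijApp φ) {P B : X.Modules} (hP : PicF.IsInvertible P)
    {ι : Type} (V : ι → Y.Opens) (b : ι → (Coh.structureModule X ⟶ B)) (hB : PicF.IsInvertible B)
    (hV : ∀ i, CohB1.genLocus B (b i) = φ ⁻¹ᵁ V i) (hcov : ∀ x, ∃ i, x ∈ CohB1.genLocus B (b i))
    {a c : ℕ} (e : CohB1.tensorPow P (a + 1) ≅ CohB1.tensorPow B (c + 1)) (t : Coh.structureModule X ⟶ P) :
    ∃ W : Y.Opens, CohB1.genLocus P t = φ ⁻¹ᵁ W := by
  let t' : Coh.structureModule X ⟶ CohB1.tensorPow B (c + 1) := AmpleLib.powS t (a + 1) ≫ e.hom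
  have ht' : CohB1.genLocus _ t' = CohB1.genLocus P t :=
    (AmpleLib.genLocus_comp_iso _ e).trans (AmpleLib.genLocus_powS hP t a)
  have key : ∀ i, ∃ W : Y.Opens, φ ⁻¹ᵁ W = CohB1.genLocus P t ⊓ CohB1.genLocus B (b i) := fun i => by
    have he : Gen (φ ⁻¹ᵁ V i) (resT (sec (AmpleLib.powS (b i) (c + 1))) (φ ⁻¹ᵁ V i)) :=
      AmpleEmb.gen_resT_of_mem (AmpleLib.isInvertible_tensorPow hB _) _
        ((AmpleLib.genLocus_powS hB (b i) c).trans (hV i))
    obtain ⟨f, hf⟩ := (he _ le_rfl).2 (resT (sec t') (φ ⁻¹ᵁ V i))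
    simp only [ParaFLib.res_self] at hf
    obtain ⟨g, rfl⟩ := (hb (V i)).2 f
    refine ⟨Y.basicOpen g, ?_⟩
    rw [← ht', hV i, Scheme.preimage_basicOpen]
    exact (AmpleLib.genLocus_inf_eq_basicOpen t' he hf).symm
  choose W hW using key
  refine ⟨⨆ i, W i, ?_⟩
  rw [Scheme.Hom.preimage_iSup]
  refine le_antisymm (fun x hx => ?_) (iSup_le fun i => (hW i).trans_le inf_le_left)
  obtain ⟨i, hi⟩ := hcov x
  exact Opens.mem_iSup.2 ⟨i, (hW i).ge ⟨hx, hi⟩⟩

/-- The bijection of sections over an open and over its preimage, written at a given open. -/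
theorem bijective_appLE (hb : RigidLib.BijApp φ) {V : Y.Opens} {U : X.Opens} (h : φ ⁻¹ᵁ V = U) :
    Function.Bijective (φ.appLE V U h.ge) := by
  subst h
  have := hb V
  convert this using 2
  simp [Scheme.Hom.appLE]

theorem appLE_res {V V' : Y.Opens} {U U' : X.Opens} (e : U ≤ φ ⁻¹ᵁ V) (e' : U' ≤ φ ⁻¹ᵁ V') (hV : V' ≤ V)
    (hU : U' ≤ U) (s : Γ(Y, V)) :
    φ.appLE V' U' e' (Y.presheaf.map (homOfLE hV).op s) = X.presheaf.map (homOfLE hU).op (φ.appLE V U e s) := by
  rw [← ConcreteCategory.comp_apply, ← ConcreteCategory.comp_apply, Scheme.Hom.map_appLE, Scheme.Hom.appLE_map]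

theorem basicOpen_appLE {V : Y.Opens} {U : X.Opens} (h : φ ⁻¹ᵁ V = U) (s : Γ(Y, V)) :
    X.basicOpen (φ.appLE V U h.ge s) = φ ⁻¹ᵁ Y.basicOpen s := by
  subst h
  rw [Scheme.preimage_basicOpen]
  simp [Scheme.Hom.appLE]

/-- A family of ratios whose opens are preimages descends along a surjection bijective on sections. -/
theorem exists_descend [Surjective φ] (hb : RigidLib.BijApp φ) {n : ℕ} (F : GenMorph.RatioFamily X n)
    (V : Fin (n + 1) → Y.Opens) (hV : ∀ i, φ ⁻¹ᵁ V i = F.U i) :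
    ∃ (G : GenMorph.RatioFamily Y n) (hG : ∀ i, φ ⁻¹ᵁ G.U i = F.U i),
      ∀ i a, φ.appLE (G.U i) (F.U i) (hG i).ge (G.t i a) = F.t i a := by
  choose t ht using fun i a => (bijective_appLE hb (hV i)).2 (F.t i a)
  have hinf : ∀ i j, φ ⁻¹ᵁ (V i ⊓ V j) = F.U i ⊓ F.U j := fun i j =>
    congrArg₂ (· ⊓ ·) (hV i) (hV j)
  refine ⟨{ U := V, cover := ?_, t := t, t_self := fun i => ?_, t_open := fun i a => ?_, t_mul := fun i j a => ?_ },
    hV, ht⟩
  · refine preimage_injective (φ := φ) ?_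
    rw [Scheme.Hom.preimage_iSup, φ.preimage_top, ← F.cover]
    exact iSup_congr hV
  · refine (bijective_appLE hb (hV i)).1 ?_
    rw [ht, F.t_self, map_one]
  · refine preimage_injective (φ := φ) ?_
    rw [← basicOpen_appLE (hV i), ht, F.t_open, hinf]
  · refine (bijective_appLE hb (hinf i j)).1 ?_
    rw [map_mul, appLE_res (hV j).ge _ _ inf_le_right, appLE_res (hV j).ge _ _ inf_le_right,
      appLE_res (hV i).ge _ _ inf_le_left, ht, ht, ht]
    exact F.t_mul i j a

/-- The pullback of `O(1)` along a map with the given ratios is the module of the sections. -/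
theorem nonempty_iso_pullback {R : Type u} [CommRing R] {n : ℕ} (F : GenMorph.RatioFamily X n)
    (g : X ⟶ CohB1.ProjSpace n R) (hpre : ∀ i, g ⁻¹ᵁ AmpleEmb.stdOpen n R i = F.U i)
    (hr : ∀ i a, g.appLE (AmpleEmb.stdOpen n R i) (F.U i) (hpre i).ge (AmpleEmb.coordRatio n R i a) = F.t i a)
    {P : X.Modules} (s : Fin (n + 1) → (Coh.structureModule X ⟶ P))
    (hgen : ∀ i, Gen (F.U i) (resT (sec (s i)) (F.U i)))
    (ht : ∀ i a, F.t i a • resT (sec (s i)) (F.U i) = resT (sec (s a)) (F.U i)) :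
    Nonempty (P ≅ (Scheme.Modules.pullback g).obj (Twist.twistProjSpace n R 1)) :=
  GenMorph.nonempty_iso_of_ratios F s (fun i => AmpleLib.pullS g (AmpleEmb.coordSec n R i)) hgen
    (fun i => AmpleEmb.gen_resT_of_mem (AmpleLib.isInvertible_pullback _ (AmpleEmb.isInvertible_twistOne n R)) _
      ((AmpleLib.genLocus_pullS _ (AmpleEmb.isInvertible_twistOne n R) _).trans
        ((congrArg (g ⁻¹ᵁ ·) (AmpleEmb.genLocus_coordSec n R i)).trans (hpre i))))
    ht (fun i a => AmpleEmb.smul_resT_eq _ _ (hpre i).ge _ _ (hr i a)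
      fun x hx => AmpleEmb.coord_pullback_ratio g i a x ((hpre i).ge hx))

end Groth.Agent.SemiampleLib
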